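import Cfsg.Prelude.Def_ParabolicCharacters
import Cfsg.Agent.Characters.Induction
import Cfsg.Agent.Characters.Linear
import Cfsg.Agent.Characters.Generalized
import Cfsg.Agent.Characters.Classes
import Cfsg.Agent.Linear.Basic
import Mathlib.NumberTheory.MulChar.Duality
import Mathlib.RingTheory.RootsOfUnity.AlgebraicallyClosed

/-!
# Characters of `GL₂(q)` induced from the upper triangular subgroup
-/

set_option autoImplicit false
set_option linter.unusedSectionVars false

namespace CfsgLib.GL2CharTable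

open Matrix CfsgLib.Characters
open scoped ComplexConjugate

variable {F : Type*} [Field F] [Fintype F] [DecidableEq F]

local notation "GG" => GL (Fin 2) F
local notation "BB" => Cfsg.upperTriangularGL 2 F

theorem mem_B {g : GG} : g ∈ BB ↔ g 1 0 = 0 := by
  show (g : Matrix (Fin 2) (Fin 2) F).BlockTriangular id ↔ _
  constructor
  · intro h; exact h (show (0 : Fin 2) < 1 by decide)
  · intro h i j hij
    fin_cases i <;> fin_cases j <;> first | exact absurd hij (by decide) | exact h

/-- An upper triangular matrix. -/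
def up (a d : Fˣ) (x : F) : GG :=
  ⟨!![(a : F), x; 0, (d : F)], !![((a⁻¹ : Fˣ) : F), -(((a⁻¹ : Fˣ) : F) * x * ((d⁻¹ : Fˣ) : F)); 0, ((d⁻¹ : Fˣ) : F)],
    by
      ext i j
      fin_cases i <;> fin_cases j <;> simp [Matrix.mul_apply, Fin.sum_univ_two, ← mul_assoc],
    by
      ext i j
      fin_cases i <;> fin_cases j <;> simp [Matrix.mul_apply, Fin.sum_univ_two, mul_assoc]⟩

@[simp] theorem coe_up (a d : Fˣ) (x : F) : (up a d x : Matrix (Fin 2) (Fin 2) F) = !![(a : F), x; 0, (d : F)] := rfl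

theorem up_mem (a d : Fˣ) (x : F) : up a d x ∈ BB := mem_B.2 (by simp)

theorem up_mul (a d a' d' : Fˣ) (x x' : F) :
    up a d x * up a' d' x' = up (a * a') (d * d') ((a : F) * x' + x * (d' : F)) := by
  apply Units.ext
  rw [Units.val_mul, coe_up, coe_up, coe_up, Matrix.mul_fin_two]
  simp

theorem up_one : up (1 : Fˣ) 1 (0 : F) = 1 := by
  apply Units.ext
  ext i j
  fin_cases i <;> fin_cases j <;> simp

theorem diag_ne_zero {g : GG} (h : g 1 0 = 0) : g 0 0 ≠ 0 ∧ g 1 1 ≠ 0 := by
  have := g.det_ne_zero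
  rw [Matrix.det_fin_two, h, mul_zero, sub_zero] at this
  exact ⟨left_ne_zero_of_mul this, right_ne_zero_of_mul this⟩

theorem exists_up {g : GG} (h : g 1 0 = 0) : ∃ a d x, g = up a d x ∧ g 0 0 = (a : F) ∧ g 1 1 = (d : F) := by
  obtain ⟨h0, h1⟩ := diag_ne_zero h
  refine ⟨Units.mk0 _ h0, Units.mk0 _ h1, g 0 1, ?_, rfl, rfl⟩
  apply Units.ext
  rw [coe_up]
  ext i j
  fin_cases i <;> fin_cases j <;> simp [h]

/-- Coordinates on the upper triangular subgroup. -/
noncomputable def upEquiv : Fˣ × Fˣ × F ≃ BB :=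
  Equiv.ofBijective (fun p => ⟨up p.1 p.2.1 p.2.2, up_mem _ _ _⟩) (by
    constructor
    · rintro ⟨a, d, x⟩ ⟨a', d', x'⟩ h
      have h' := congrArg (fun g : BB => ((g : GG) : Matrix (Fin 2) (Fin 2) F)) h
      simp only [coe_up] at h'
      have h00 := congrFun (congrFun h' 0) 0
      have h01 := congrFun (congrFun h' 0) 1
      have h11 := congrFun (congrFun h' 1) 1
      simp at h00 h01 h11
      rw [Units.ext h00, Units.ext h11, h01]
    · rintro ⟨g, hg⟩
      obtain ⟨a, d, x, rfl, -, -⟩ := exists_up (mem_B.1 hg)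
      exact ⟨(a, d, x), rfl⟩)

theorem card_B : (Nat.card BB : ℂ) = (Fintype.card F : ℂ) * ((Fintype.card F : ℂ) - 1) ^ 2 := by
  rw [← Nat.card_congr (upEquiv (F := F)), Nat.card_prod, Nat.card_prod, Nat.card_eq_fintype_card, Nat.card_eq_fintype_card,
    Fintype.card_units]
  have : 1 ≤ Fintype.card F := Fintype.card_pos
  push_cast [Nat.cast_sub this]
  ring

/-! ### Coset representatives -/

/-- Representatives of the cosets other than the subgroup itself. -/
def vv (c : F) : GG :=
  ⟨!![c, 1; 1, 0], !![0, 1; 1, -c],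
    by ext i j; fin_cases i <;> fin_cases j <;> simp [Matrix.mul_apply, Fin.sum_univ_two],
    by ext i j; fin_cases i <;> fin_cases j <;> simp [Matrix.mul_apply, Fin.sum_univ_two]⟩

theorem vv_conj (c : F) (g : GG) :
    (((vv c)⁻¹ * g * vv c : GG) : Matrix (Fin 2) (Fin 2) F) =
      !![g 1 0 * c + g 1 1, g 1 0; g 0 0 * c + g 0 1 - c * (g 1 0 * c + g 1 1), g 0 0 - c * g 1 0] := by
  rw [Units.val_mul, Units.val_mul]
  show !![0, 1; 1, -c] * (g : Matrix (Fin 2) (Fin 2) F) * !![c, 1; 1, 0] = _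
  conv_lhs => rw [Matrix.eta_fin_two (g : Matrix (Fin 2) (Fin 2) F), Matrix.mul_fin_two, Matrix.mul_fin_two]
  ext i j
  fin_cases i <;> fin_cases j <;> simp <;> ring

def rep : Option F → GG
  | none => 1
  | some c => vv c

theorem rep_bijective : Function.Bijective (fun p : Option F × BB => rep p.1 * (p.2 : GG)) := by
  constructor
  · rintro ⟨o, b⟩ ⟨o', b'⟩ h
    simp only at h
    have key : o = o' := by
      have e10 : ∀ b : BB, (b : GG) 1 0 = 0 := fun b => mem_B.1 b.2
      have h0 := diag_ne_zero (e10 b)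
      have h0' := diag_ne_zero (e10 b')
      have hv := congrArg (fun g : GG => ((g : Matrix (Fin 2) (Fin 2) F) 0 0, (g : Matrix (Fin 2) (Fin 2) F) 1 0)) h
      cases o <;> cases o' <;> simp [rep, vv, Matrix.mul_apply, Fin.sum_univ_two, e10] at hv
      · rfl
      · exact absurd hv.2.symm (by simp [h0'.1])
      · exact absurd hv.2 (by simp [h0.1])
      · rw [hv.2] at hv
        exact congrArg some (mul_right_cancel₀ h0'.1 hv.1)
    subst key
    exact Prod.ext rfl (Subtype.ext (mul_left_cancel h))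
  · intro g
    by_cases h : g 1 0 = 0
    · exact ⟨(none, ⟨g, mem_B.2 h⟩), by simp [rep]⟩
    · refine ⟨(some (g 0 0 / g 1 0), ⟨(vv (g 0 0 / g 1 0))⁻¹ * g, mem_B.2 ?_⟩), by simp [rep]⟩
      rw [Units.val_mul]
      show (!![0, 1; 1, -(g 0 0 / g 1 0)] * (g : Matrix (Fin 2) (Fin 2) F)) 1 0 = 0
      simp [Matrix.mul_apply, Fin.sum_univ_two, div_mul_cancel₀ _ h]

/-! ### Multiplicative characters -/

theorem conj_mul_inv (α : MulChar F ℂ) (a : F) : conj (α a) = α⁻¹ a := MulChar.star_apply' α a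

theorem norm_apply (α : MulChar F ℂ) (a : Fˣ) : ‖α a‖ = 1 := by
  refine Complex.norm_eq_one_of_pow_eq_one (n := Fintype.card Fˣ) ?_ Fintype.card_pos.ne'
  rw [← map_pow, ← Units.val_pow_eq_pow_val, pow_card_eq_one, Units.val_one, map_one]

theorem sum_units (α : MulChar F ℂ) :
    ∑ a : Fˣ, α a = if α = 1 then ((Fintype.card F : ℂ) - 1) else 0 := by
  split_ifs with h
  · subst h
    simp [Fintype.card_units, Nat.cast_sub (Fintype.card_pos : 1 ≤ Fintype.card F)]
  · rw [← MulChar.sum_eq_zero_of_ne_one h]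
    have h2 : ∑ a : F, α a = ∑ a ∈ (Finset.univ.erase (0 : F)), α a := by
      rw [← Finset.add_sum_erase _ _ (Finset.mem_univ (0 : F)), MulChar.map_zero, zero_add]
    rw [h2]
    refine Finset.sum_bij (fun a _ => (a : F)) (fun a _ => by simp) (fun a _ b _ e => Units.ext e) (fun b hb => ?_) fun a _ => rfl
    exact ⟨Units.mk0 b (Finset.ne_of_mem_erase hb), Finset.mem_univ _, rfl⟩

theorem inner_units (α β : MulChar F ℂ) :
    ∑ a : Fˣ, α a * conj (β a) = if α = β then ((Fintype.card F : ℂ) - 1) else 0 := by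
  simp only [conj_mul_inv, ← MulChar.mul_apply]
  rw [sum_units]
  simp [mul_inv_eq_one]

theorem card_mulChar : Nat.card (MulChar F ℂ) = Fintype.card F - 1 := by
  rw [MulChar.card_eq_card_units_of_hasEnoughRootsOfUnity, Nat.card_eq_fintype_card, Fintype.card_units]

/-- The multiplicative characters separate the units. -/
theorem eq_zero_of_forall (f : Fˣ → ℂ) (h : ∀ α : MulChar F ℂ, ∑ a : Fˣ, α a * f a = 0) : f = 0 := by
  classical
  have : Fintype (MulChar F ℂ) := Fintype.ofFinite _
  funext b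
  have key : ∀ a : Fˣ, ∑ α : MulChar F ℂ, α a * conj (α b) = if a = b then ((Fintype.card F : ℂ) - 1) else 0 := by
    intro a
    split_ifs with hab
    · subst hab
      simp only [Complex.mul_conj', norm_apply, Complex.ofReal_one, one_pow, Finset.sum_const, Finset.card_univ,
        nsmul_eq_mul, mul_one]
      rw [← Nat.card_eq_fintype_card, card_mulChar, Nat.cast_sub (Fintype.card_pos : 1 ≤ Fintype.card F), Nat.cast_one]
    · obtain ⟨χ, hχ⟩ := MulChar.exists_apply_ne_one_of_hasEnoughRootsOfUnity (M := F) (R := ℂ) (a := ((a * b⁻¹ : Fˣ) : F))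
        (fun e => hab (mul_inv_eq_one.1 (Units.val_eq_one.1 e)))
      refine eq_zero_of_mul_eq_self_left hχ ?_
      rw [Finset.mul_sum]
      refine Fintype.sum_bijective _ (Group.mulLeft_bijective χ) _ _ fun α => ?_
      rw [conj_mul_inv, conj_mul_inv, MulChar.inv_apply', MulChar.inv_apply', MulChar.mul_apply, MulChar.mul_apply,
        Units.val_mul, map_mul, Units.val_inv_eq_inv_val]
      ring
  have h0 : ∑ α : MulChar F ℂ, conj (α b) * ∑ a : Fˣ, α a * f a = 0 := by simp [h]
  simp only [Finset.mul_sum] at h0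
  rw [Finset.sum_comm] at h0
  rw [Finset.sum_congr rfl (g := fun a => (if a = b then ((Fintype.card F : ℂ) - 1) else 0) * f a)
    (fun a _ => by rw [← key a, Finset.sum_mul]; exact Finset.sum_congr rfl fun α _ => by ring)] at h0
  simp only [ite_mul, zero_mul, Finset.sum_ite_eq', Finset.mem_univ, if_true] at h0
  refine (mul_eq_zero.1 h0).resolve_left ?_
  have : (1 : ℕ) < Fintype.card F := Fintype.one_lt_card
  intro e
  exact this.ne' (by exact_mod_cast sub_eq_zero.1 e)

/-! ### The induced characters -/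

/-- The function `b ↦ α(b₁₁) β(b₂₂)`. -/
noncomputable def bfun (α β : MulChar F ℂ) : BB → ℂ := fun b =>
  α (((b : GG) : Matrix (Fin 2) (Fin 2) F) 0 0) * β (((b : GG) : Matrix (Fin 2) (Fin 2) F) 1 1)

theorem bfun_up (α β : MulChar F ℂ) (a d : Fˣ) (x : F) : bfun α β ⟨up a d x, up_mem a d x⟩ = α a * β d := by
  simp [bfun]

theorem bfun_one (α β : MulChar F ℂ) : bfun α β 1 = 1 := by simp [bfun]

theorem bfun_mul (α β : MulChar F ℂ) (b b' : BB) : bfun α β (b * b') = bfun α β b * bfun α β b' := by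
  obtain ⟨⟨a, d, x⟩, rfl⟩ := upEquiv.surjective b
  obtain ⟨⟨a', d', x'⟩, rfl⟩ := upEquiv.surjective b'
  show bfun α β (⟨up a d x * up a' d' x', _⟩ : BB) = bfun α β ⟨up a d x, up_mem a d x⟩ * bfun α β ⟨up a' d' x', up_mem _ _ _⟩
  simp only [bfun, up_mul]
  simp [mul_mul_mul_comm]

theorem isCharacter_bfun (α β : MulChar F ℂ) : Cfsg.IsCharacter BB (bfun α β) := by
  let f : BB →* ℂ := { toFun := bfun α β, map_one' := bfun_one α β, map_mul' := bfun_mul α β }
  exact isCharacter_of_isIrr (isIrr_linChar f.toHomUnits)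

/-- The principal series. -/
noncomputable def PS (α β : MulChar F ℂ) : GG → ℂ := Cfsg.indFun BB (bfun α β)

theorem isCharacter_PS (α β : MulChar F ℂ) : Cfsg.IsCharacter GG (PS α β) :=
  isCharacter_indFun BB (isCharacter_bfun α β)

theorem PS_apply (α β : MulChar F ℂ) (g : GG) :
    PS α β g = (if g 1 0 = 0 then α (g 0 0) * β (g 1 1) else 0) +
      ∑ c : F, if g 0 0 * c + g 0 1 - c * (g 1 0 * c + g 1 1) = 0 then
        α (g 1 0 * c + g 1 1) * β (g 0 0 - c * g 1 0) else 0 := by
  have hext : ∀ y : GG, Cfsg.extendByZero BB (bfun α β) y =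
      if y 1 0 = 0 then α (y 0 0) * β (y 1 1) else 0 := by
    intro y
    split_ifs with h
    · rw [extendByZero_of_mem _ _ (mem_B.2 h)]; rfl
    · exact extendByZero_of_not_mem _ _ (fun e => h (mem_B.1 e))
  have hinv : ∀ (y : GG) (b : BB), Cfsg.extendByZero BB (bfun α β) ((b : GG)⁻¹ * y * b) =
      Cfsg.extendByZero BB (bfun α β) y := by
    intro y b
    by_cases h : y ∈ BB
    · lift y to BB using h
      rw [← Subgroup.coe_inv, ← Subgroup.coe_mul, ← Subgroup.coe_mul, extendByZero_coe, extendByZero_coe, bfun_mul,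
        bfun_mul, mul_comm (bfun α β b⁻¹), mul_assoc, ← bfun_mul, inv_mul_cancel, bfun_one, mul_one]
    · rw [extendByZero_of_not_mem _ _ h, extendByZero_of_not_mem]
      intro e
      exact h ((Subgroup.mul_mem_cancel_left _ (inv_mem b.2)).1 ((Subgroup.mul_mem_cancel_right _ b.2).1 e))
  classical
  show (Nat.card BB : ℂ)⁻¹ * ∑ x : GG, Cfsg.extendByZero BB (bfun α β) (x⁻¹ * g * x) = _
  rw [← (Equiv.ofBijective _ rep_bijective).sum_comp, Fintype.sum_prod_type]
  simp only [Equiv.ofBijective_apply, _root_.mul_inv_rev]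
  rw [Finset.sum_congr rfl (g := fun o => (Nat.card BB : ℂ) * Cfsg.extendByZero BB (bfun α β) ((rep o)⁻¹ * g * rep o))
    (fun o _ => by
      rw [Finset.sum_congr rfl (g := fun _ => Cfsg.extendByZero BB (bfun α β) ((rep o)⁻¹ * g * rep o))
        (fun b _ => by rw [← hinv ((rep o)⁻¹ * g * rep o) b]; simp only [mul_assoc]),
        Finset.sum_const, Finset.card_univ, ← Nat.card_eq_fintype_card, nsmul_eq_mul]),
    ← Finset.mul_sum, ← mul_assoc, inv_mul_cancel₀ (subgroup_card_ne_zero BB), one_mul, Fintype.sum_option]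
  simp only [hext, rep, vv_conj, inv_one, one_mul, mul_one]
  simp

/-- Values on the upper triangular subgroup. -/
theorem PS_up (α β : MulChar F ℂ) (a d : Fˣ) (x : F) :
    PS α β (up a d x) = α a * β d + ∑ c : F, if ((a : F) - d) * c + x = 0 then α d * β a else 0 := by
  rw [PS_apply]
  simp only [coe_up, Matrix.cons_val_zero, Matrix.cons_val_one, Matrix.of_apply, Matrix.cons_val', Matrix.empty_val',
    Matrix.cons_val_fin_one, if_true, zero_mul, zero_add, mul_zero, sub_zero]
  congr 1
  refine Finset.sum_congr rfl fun c _ => ?_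
  rw [show (a : F) * c + x - c * (d : F) = ((a : F) - d) * c + x by ring]

theorem PS_regular (α β : MulChar F ℂ) {a d : Fˣ} (h : a ≠ d) (x : F) :
    PS α β (up a d x) = α a * β d + α d * β a := by
  have h0 : (a : F) - d ≠ 0 := sub_ne_zero.2 fun e => h (Units.ext e)
  rw [PS_up, Finset.sum_eq_single (-x / ((a : F) - d))]
  · rw [if_pos]; field_simp; ring
  · intro c _ hc
    rw [if_neg]
    intro e
    exact hc (by field_simp; linear_combination e)
  · simp

theorem PS_jordan (α β : MulChar F ℂ) (a : Fˣ) {x : F} (hx : x ≠ 0) : PS α β (up a a x) = α a * β a := by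
  rw [PS_up, Finset.sum_eq_zero, add_zero]
  intro c _
  rw [if_neg]
  simp [hx]

theorem PS_one (α β : MulChar F ℂ) : PS α β 1 = (Fintype.card F : ℂ) + 1 := by
  rw [← up_one, PS_up]
  simp [add_comm]

theorem PS_no_eigen (α β : MulChar F ℂ) {g : GG}
    (hg : ∀ (c : F) (v : Fin 2 → F), v ≠ 0 → (g : Matrix (Fin 2) (Fin 2) F).mulVec v ≠ c • v) : PS α β g = 0 := by
  rw [PS_apply, if_neg, zero_add, Finset.sum_eq_zero]
  · intro c _
    rw [if_neg]
    intro e
    refine hg (g 1 0 * c + g 1 1) ![c, 1] (fun h => by simpa using congrFun h 1) ?_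
    ext i
    fin_cases i <;> simp [Matrix.mulVec, dotProduct, Fin.sum_univ_two]
    linear_combination e
  · intro e
    refine hg (g 0 0) ![1, 0] (fun h => by simpa using congrFun h 0) ?_
    ext i
    fin_cases i <;> simp [Matrix.mulVec, dotProduct, Fin.sum_univ_two, e]

theorem PS_sum (α β : MulChar F ℂ) (a d : Fˣ) :
    ∑ x : F, PS α β (up a d x) = (Fintype.card F : ℂ) * (α a * β d + α d * β a) := by
  simp only [PS_up, Finset.sum_add_distrib, Finset.sum_const, Finset.card_univ, nsmul_eq_mul]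
  rw [Finset.sum_comm]
  simp only [add_eq_zero_iff_neg_eq, Finset.sum_ite_eq, Finset.mem_univ, if_true, Finset.sum_const, Finset.card_univ,
    nsmul_eq_mul]
  ring

/-- Inner products with a function through sums along the unipotent radical. -/
theorem inner_PS {χ : GG → ℂ} (hχ : Cfsg.IsClassFunction GG χ) (α β : MulChar F ℂ) :
    Cfsg.classInner (PS α β) χ = (Nat.card BB : ℂ)⁻¹ *
      ∑ a : Fˣ, ∑ d : Fˣ, α a * β d * conj (∑ x : F, χ (up a d x)) := by
  classical
  rw [PS, classInner_indFun BB _ hχ, Cfsg.classInner, ← (upEquiv (F := F)).sum_comp, Fintype.sum_prod_type]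
  congr 1
  refine Finset.sum_congr rfl fun a _ => ?_
  rw [Fintype.sum_prod_type]
  refine Finset.sum_congr rfl fun d _ => ?_
  rw [map_sum, Finset.mul_sum]
  refine Finset.sum_congr rfl fun x _ => ?_
  show bfun α β ⟨up a d x, up_mem a d x⟩ * _ = _
  rw [bfun_up]
  rfl

theorem sum_pair (α β α' β' : MulChar F ℂ) :
    ∑ a : Fˣ, ∑ d : Fˣ, α a * β d * conj (α' a * β' d) =
      if α = α' ∧ β = β' then ((Fintype.card F : ℂ) - 1) ^ 2 else 0 := by
  rw [show (if α = α' ∧ β = β' then ((Fintype.card F : ℂ) - 1) ^ 2 else 0) =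
      (if α = α' then ((Fintype.card F : ℂ) - 1) else 0) * (if β = β' then ((Fintype.card F : ℂ) - 1) else 0) by
    by_cases e : α = α' <;> by_cases e' : β = β' <;> simp [e, e', sq]]
  rw [← inner_units, ← inner_units, Finset.sum_mul]
  refine Finset.sum_congr rfl fun a _ => ?_
  rw [Finset.mul_sum]
  exact Finset.sum_congr rfl fun d _ => by rw [map_mul]; ring

theorem q_ne : (Fintype.card F : ℂ) ≠ 0 ∧ (Fintype.card F : ℂ) - 1 ≠ 0 := by
  have : (1 : ℕ) < Fintype.card F := Fintype.one_lt_card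
  refine ⟨Nat.cast_ne_zero.2 Fintype.card_ne_zero, fun e => ?_⟩
  exact this.ne' (by exact_mod_cast sub_eq_zero.1 e)

theorem classInner_PS (α β α' β' : MulChar F ℂ) :
    Cfsg.classInner (PS α β) (PS α' β') =
      (if α = α' ∧ β = β' then 1 else 0) + (if α = β' ∧ β = α' then 1 else 0) := by
  rw [inner_PS (isClassFunction_of_isCharacter (isCharacter_PS α' β'))]
  simp only [PS_sum, map_mul, map_add, Complex.conj_natCast]
  rw [show (∑ a : Fˣ, ∑ d : Fˣ, α a * β d * ((Fintype.card F : ℂ) * (conj (α' a) * conj (β' d) + conj (α' d) * conj (β' a))))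
      = (Fintype.card F : ℂ) * (∑ a : Fˣ, ∑ d : Fˣ, α a * β d * conj (α' a * β' d) +
          ∑ a : Fˣ, ∑ d : Fˣ, α a * β d * conj (β' a * α' d)) by
    simp only [mul_add, Finset.mul_sum, ← Finset.sum_add_distrib, map_mul]
    exact Finset.sum_congr rfl fun a _ => Finset.sum_congr rfl fun d _ => by ring,
    sum_pair, sum_pair, card_B]
  obtain ⟨h1, h2⟩ := q_ne (F := F)
  split_ifs <;> field_simp <;> ring

theorem PS_irr {α β : MulChar F ℂ} (h : α ≠ β) : Cfsg.IsIrrCharacter GG (PS α β) := by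
  refine isIrr_of_classInner_self (isCharacter_PS α β) ?_
  rw [classInner_PS]
  simp [h]

theorem PS_comm (α β : MulChar F ℂ) : PS α β = PS β α := by
  by_cases h : α = β
  · rw [h]
  by_contra hne
  have := classInner_isIrr_ne (PS_irr h) (PS_irr (Ne.symm h)) hne
  rw [classInner_PS] at this
  simp [h, Ne.symm h] at this

theorem PS_eq_iff (α β α' β' : MulChar F ℂ) :
    PS α β = PS α' β' ↔ (α = α' ∧ β = β') ∨ (α = β' ∧ β = α') := by
  constructor
  · intro e
    have h : Cfsg.classInner (PS α β) (PS α' β') = Cfsg.classInner (PS α β) (PS α β) := by rw [e]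
    rw [classInner_PS, classInner_PS, if_pos (⟨rfl, rfl⟩ : α = α ∧ β = β)] at h
    by_contra hne
    rw [not_or] at hne
    rw [if_neg hne.1, if_neg hne.2] at h
    split_ifs at h <;> norm_num at h
  · rintro (⟨rfl, rfl⟩ | ⟨rfl, rfl⟩)
    · rfl
    · exact PS_comm _ _

/-! ### Linear characters and the Steinberg twists -/

/-- `α ∘ det`. -/
noncomputable def LL (α : MulChar F ℂ) : GG → ℂ := fun g => α (g : Matrix (Fin 2) (Fin 2) F).det

theorem isIrr_LL (α : MulChar F ℂ) : Cfsg.IsIrrCharacter GG (LL α) := by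
  have : LL α = fun g : GG => ((α.toUnitHom.comp Matrix.GeneralLinearGroup.det g : ℂˣ) : ℂ) := by
    funext g; simp [LL]
  rw [this]
  exact isIrr_linChar _

theorem classInner_PS_LL (α β γ : MulChar F ℂ) :
    Cfsg.classInner (PS α β) (LL γ) = if α = γ ∧ β = γ then 1 else 0 := by
  rw [inner_PS (isClassFunction_of_isIrr (isIrr_LL γ))]
  have : ∀ a d : Fˣ, ∑ x : F, LL γ (up a d x) = (Fintype.card F : ℂ) * (γ a * γ d) := fun a d => by
    simp [LL, Matrix.det_fin_two]
  simp only [this, map_mul, Complex.conj_natCast]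
  rw [show (∑ a : Fˣ, ∑ d : Fˣ, α a * β d * ((Fintype.card F : ℂ) * (conj (γ a) * conj (γ d))))
      = (Fintype.card F : ℂ) * (∑ a : Fˣ, ∑ d : Fˣ, α a * β d * conj (γ a * γ d)) by
    simp only [Finset.mul_sum, map_mul]
    exact Finset.sum_congr rfl fun a _ => Finset.sum_congr rfl fun d _ => by ring,
    sum_pair, card_B]
  obtain ⟨h1, h2⟩ := q_ne (F := F)
  split_ifs <;> field_simp <;> simp

theorem LL_injective : Function.Injective (LL (F := F)) := by
  intro α β h
  ext a
  have := congrFun h (up a 1 0)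
  simpa [LL, Matrix.det_fin_two] using this

theorem classInner_LL (α β : MulChar F ℂ) : Cfsg.classInner (LL α) (LL β) = if α = β then 1 else 0 := by
  split_ifs with h
  · subst h; exact classInner_isIrr_self (isIrr_LL α)
  · exact classInner_isIrr_ne (isIrr_LL α) (isIrr_LL β) (fun e => h (LL_injective e))

/-- The twists of the Steinberg character. -/
noncomputable def SS (α : MulChar F ℂ) : GG → ℂ := PS α α - LL α

theorem LL_one (α : MulChar F ℂ) : LL α 1 = 1 := by simp [LL]

theorem SS_one (α : MulChar F ℂ) : SS α 1 = (Fintype.card F : ℂ) := by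
  simp [SS, PS_one, LL_one]

theorem classInner_SS (α β : MulChar F ℂ) : Cfsg.classInner (SS α) (SS β) = if α = β then 1 else 0 := by
  have h : Cfsg.classInner (LL α) (PS β β) = if α = β then 1 else 0 := by
    rw [classInner_conj_symm, classInner_PS_LL]
    by_cases e : α = β <;> simp [e, Ne.symm]
  rw [SS, SS, classInner_sub_left, classInner_sub_right, classInner_sub_right, classInner_PS, classInner_PS_LL, h,
    classInner_LL]
  by_cases e : α = β <;> simp [e]

theorem SS_irr (α : MulChar F ℂ) : Cfsg.IsIrrCharacter GG (SS α) := by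
  refine isIrr_of_gen_norm_one (isGen_sub (isGen_of_isCharacter (isCharacter_PS α α)) (isGen_of_isIrr (isIrr_LL α))) ?_ ?_
  · rw [classInner_SS, if_pos rfl]
  · show 0 ≤ (SS α 1).re
    rw [SS_one]; simp

theorem SS_injective : Function.Injective (SS (F := F)) := by
  intro α β h
  have := classInner_SS α β
  rw [← h, classInner_SS, if_pos rfl] at this
  by_contra e
  simp [e] at this

end CfsgLib.GL2CharTable
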