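import Cfsg.Agent.GL2CharTable.Induced
import Cfsg.Agent.Characters.Integrality
import Cfsg.Agent.S2330
import Mathlib.Data.Sym.Card

/-!
# The irreducible characters of `GL₂(q)`
-/

set_option autoImplicit false
set_option linter.unusedSectionVars false

namespace CfsgLib.GL2CharTable

open Matrix CfsgLib.Characters
open scoped ComplexConjugate

variable {F : Type*} [Field F] [Fintype F] [DecidableEq F]

local notation "GG" => GL (Fin 2) F

/-- The principal series character of an unordered pair. -/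
noncomputable def PP (z : Sym2 (MulChar F ℂ)) : GG → ℂ := Sym2.lift ⟨PS, PS_comm⟩ z

theorem PP_irr {z : Sym2 (MulChar F ℂ)} (hz : ¬ z.IsDiag) : Cfsg.IsIrrCharacter GG (PP z) := by
  induction z using Sym2.ind with
  | _ α β => exact PS_irr (by simpa using hz)

theorem PP_one (z : Sym2 (MulChar F ℂ)) : PP z 1 = (Fintype.card F : ℂ) + 1 := by
  induction z using Sym2.ind with
  | _ α β => exact PS_one α β

theorem PP_injective : Function.Injective (PP (F := F)) := by
  intro z w h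
  induction z using Sym2.ind with
  | _ α β =>
    induction w using Sym2.ind with
    | _ α' β' => exact Sym2.eq_iff.2 ((PS_eq_iff α β α' β').1 h)

/-- The characters which are neither linear, nor twists of Steinberg, nor principal series. -/
def IsCusp (χ : GG → ℂ) : Prop :=
  Cfsg.IsIrrCharacter GG χ ∧ (∀ α, χ ≠ LL α) ∧ (∀ α, χ ≠ SS α) ∧ ∀ α β, α ≠ β → χ ≠ PS α β

theorem cusp_sum {χ : GL (Fin 2) F → ℂ} (h : IsCusp χ) (a d : Fˣ) : ∑ x : F, χ (up a d x) = 0 := by
  obtain ⟨hχ, hL, hS, hP⟩ := h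
  have h0 : ∀ α β : MulChar F ℂ, ∑ b : Fˣ, ∑ c : Fˣ, α b * β c * conj (∑ x : F, χ (up b c x)) = 0 := by
    intro α β
    have e : Cfsg.classInner (PS α β) χ = 0 := by
      by_cases hαβ : α = β
      · subst hαβ
        rw [show PS α α = SS α + LL α by simp [SS], classInner_add_left,
          classInner_isIrr_ne (SS_irr α) hχ (hS α).symm, classInner_isIrr_ne (isIrr_LL α) hχ (hL α).symm, add_zero]
      · exact classInner_isIrr_ne (PS_irr hαβ) hχ (hP α β hαβ).symm
    rw [inner_PS (isClassFunction_of_isIrr hχ)] at e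
    exact (mul_eq_zero.1 e).resolve_left (inv_ne_zero (subgroup_card_ne_zero _))
  have h1 : ∀ β : MulChar F ℂ, (fun b : Fˣ => ∑ c : Fˣ, β c * conj (∑ x : F, χ (up b c x))) = 0 := fun β =>
    eq_zero_of_forall _ fun α => by
      rw [← h0 α β]
      refine Finset.sum_congr rfl fun b _ => ?_
      rw [Finset.mul_sum]
      exact Finset.sum_congr rfl fun c _ => by ring
  have h2 := congrFun (eq_zero_of_forall (fun c : Fˣ => conj (∑ x : F, χ (up a c x))) fun β => congrFun (h1 β) a) d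
  exact (map_eq_zero _).1 h2

theorem conj_regular {a d : Fˣ} (h : a ≠ d) (x : F) : IsConj (up a d 0) (up a d x) := by
  have h0 : (d : F) - a ≠ 0 := sub_ne_zero.2 fun e => h (Units.ext e.symm)
  refine isConj_iff.2 ⟨up 1 1 (x / ((d : F) - a)), ?_⟩
  rw [mul_inv_eq_iff_eq_mul, up_mul, up_mul]
  simp only [one_mul, mul_one, Units.val_one, mul_zero, zero_add]
  congr 1
  field_simp
  ring

theorem conj_jordan {x : F} (hx : x ≠ 0) : IsConj (up (1 : Fˣ) 1 (1 : F)) (up 1 1 x) := by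
  refine isConj_iff.2 ⟨up (Units.mk0 x hx) 1 0, ?_⟩
  rw [mul_inv_eq_iff_eq_mul, up_mul, up_mul]
  simp

theorem cusp_regular {χ : GL (Fin 2) F → ℂ} (h : IsCusp χ) {a d : Fˣ} (had : a ≠ d) (x : F) : χ (up a d x) = 0 := by
  have hc : ∀ y : F, χ (up a d y) = χ (up a d 0) := fun y =>
    (classFunction_isConj (isClassFunction_of_isIrr h.1) (conj_regular had y)).symm
  have := cusp_sum h a d
  rw [Finset.sum_congr rfl fun y _ => hc y, Finset.sum_const, Finset.card_univ, nsmul_eq_mul,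
    mul_eq_zero] at this
  rw [hc, this.resolve_left q_ne.1]

theorem cusp_jordan {χ : GL (Fin 2) F → ℂ} (h : IsCusp χ) : χ 1 = ((Fintype.card F : ℂ) - 1) * -χ (up (1 : Fˣ) 1 (1 : F)) := by
  have := cusp_sum h 1 1
  rw [← Finset.add_sum_erase _ _ (Finset.mem_univ (0 : F)), up_one,
    Finset.sum_congr rfl (g := fun _ => χ (up (1 : Fˣ) 1 (1 : F))) fun x hx =>
      (classFunction_isConj (isClassFunction_of_isIrr h.1) (conj_jordan (Finset.ne_of_mem_erase hx))).symm,
    Finset.sum_const, Finset.card_erase_of_mem (Finset.mem_univ _), Finset.card_univ, nsmul_eq_mul,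
    Nat.cast_sub (Fintype.card_pos : 1 ≤ Fintype.card F), Nat.cast_one] at this
  linear_combination this

theorem cusp_degree_ge {χ : GL (Fin 2) F → ℂ} (h : IsCusp χ) : ∃ n : ℕ, χ 1 = n ∧ Fintype.card F - 1 ≤ n := by
  obtain ⟨n, hn, hn1⟩ := exists_degree_pos h.1
  have hq : Fintype.card F - 1 ≠ 0 := by have := Fintype.one_lt_card (α := F); omega
  refine ⟨n, hn1, Nat.le_of_dvd hn (dvd_of_isIntegral_div hq ?_)⟩
  have hu := character_isIntegral (isCharacter_of_isIrr h.1) (up (1 : Fˣ) 1 (1 : F))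
  have e : ((n : ℂ) / ((Fintype.card F - 1 : ℕ) : ℂ)) = -χ (up (1 : Fˣ) 1 (1 : F)) := by
    rw [← hn1, cusp_jordan h, Nat.cast_sub (Fintype.card_pos : 1 ≤ Fintype.card F), Nat.cast_one,
      mul_div_cancel_left₀ _ q_ne.2]
  rw [e]
  exact hu.neg

theorem card_GG : (Nat.card GG : ℂ) = (Fintype.card F : ℂ) * ((Fintype.card F : ℂ) - 1) * ((Fintype.card F : ℂ) ^ 2 - 1) := by
  have h1 : 1 ≤ Fintype.card F := Fintype.card_pos
  rw [CfsgLib.Linear.card_GL_two, Nat.cast_mul, Nat.cast_mul, Nat.cast_sub h1, Nat.cast_sub (Nat.one_le_pow _ _ h1)]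
  push_cast
  ring

/-- The characters constructed so far. -/
noncomputable def known : MulChar F ℂ ⊕ MulChar F ℂ ⊕ {z : Sym2 (MulChar F ℂ) // ¬ z.IsDiag} → Cfsg.IrrCharacter GG
  | .inl α => ⟨LL α, isIrr_LL α⟩
  | .inr (.inl α) => ⟨SS α, SS_irr α⟩
  | .inr (.inr z) => ⟨PP z.1, PP_irr z.2⟩

theorem known_injective : Function.Injective (known (F := F)) := by
  have hq : (1 : ℕ) < Fintype.card F := Fintype.one_lt_card
  rintro (α | α | z) (β | β | w) h <;>
    have e := congrArg (fun c : Cfsg.IrrCharacter GG => c.1) h <;>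
    simp only [known] at e
  all_goals first
    | rw [LL_injective e]
    | rw [SS_injective e]
    | rw [Subtype.ext (PP_injective e)]
    | (have h1 := congrFun e 1; simp [LL_one, SS_one, PP_one] at h1 <;> norm_cast at h1 <;> omega)

theorem not_known_iff (c : Cfsg.IrrCharacter GG) : (∀ i, known i ≠ c) ↔ IsCusp c.1 := by
  constructor
  · intro h
    refine ⟨c.2, fun α e => h (.inl α) (Subtype.ext e.symm), fun α e => h (.inr (.inl α)) (Subtype.ext e.symm), fun α β hne e => ?_⟩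
    exact h (.inr (.inr ⟨s(α, β), by simpa using hne⟩)) (Subtype.ext e.symm)
  · rintro ⟨-, hL, hS, hP⟩ (α | α | ⟨z, hz⟩) e <;>
      have e' := congrArg (fun c : Cfsg.IrrCharacter GG => c.1) e <;> simp only [known] at e'
    · exact hL α e'.symm
    · exact hS α e'.symm
    · induction z using Sym2.ind with
      | _ α β => exact hP α β (by simpa using hz) e'.symm

theorem count_and_degree :
    2 * Nat.card {c : Cfsg.IrrCharacter GG // IsCusp c.1} = Fintype.card F * (Fintype.card F - 1) ∧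
      ∀ χ : GG → ℂ, IsCusp χ → χ 1 = (Fintype.card F : ℂ) - 1 := by
  classical
  have : Fintype (MulChar F ℂ) := Fintype.ofFinite _
  have hq : (1 : ℕ) < Fintype.card F := Fintype.one_lt_card
  have : Fintype (Cfsg.IrrCharacter GG) := Fintype.ofFinite _
  set q := Fintype.card F with hqdef
  set K : Finset (Cfsg.IrrCharacter GG) := Finset.univ.image known with hK
  have hmem : ∀ c, c ∈ Kᶜ ↔ IsCusp c.1 := fun c => by
    rw [← not_known_iff, hK, Finset.mem_compl, Finset.mem_image]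
    push Not
    simp
  set C := Fintype.card {z : Sym2 (MulChar F ℂ) // ¬ z.IsDiag}
  have hM : Fintype.card (MulChar F ℂ) = q - 1 := by rw [← Nat.card_eq_fintype_card, card_mulChar]
  have hC : (2 : ℂ) * C = ((q : ℂ) - 1) * ((q : ℂ) - 2) := by
    have : C = (q - 1).choose 2 := by rw [← hM]; exact Sym2.card_subtype_not_diag
    rw [this, Nat.cast_choose_two, Nat.cast_sub hq.le]
    push_cast
    ring
  have hcard : ((K.card : ℕ) : ℂ) = 2 * ((q : ℂ) - 1) + C := by
    rw [hK, Finset.card_image_of_injective _ known_injective, Finset.card_univ, Fintype.card_sum, Fintype.card_sum, hM]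
    push_cast [Nat.cast_sub hq.le]
    ring
  have htot : ((K.card : ℕ) : ℂ) + ((Kᶜ).card : ℕ) = (q : ℂ) ^ 2 - 1 := by
    rw [← Nat.cast_add, Finset.card_add_card_compl, ← Nat.card_eq_fintype_card, card_irrCharacter,
      Cfsg.Agent.S2330.result, Nat.cast_sub (Nat.one_le_pow _ _ hq.le)]
    push_cast
    rfl
  have hsum : ∑ c ∈ Kᶜ, (c : GG → ℂ) 1 ^ 2 = ((Kᶜ).card : ℂ) * ((q : ℂ) - 1) ^ 2 := by
    have h : ∑ c ∈ K, (c : GG → ℂ) 1 ^ 2 + ∑ c ∈ Kᶜ, (c : GG → ℂ) 1 ^ 2 = (Nat.card GG : ℂ) := by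
      rw [Finset.sum_add_sum_compl]
      convert sum_degree_sq (G := GG)
    have hk : ∑ c ∈ K, (c : GG → ℂ) 1 ^ 2 = ((q : ℂ) - 1) + ((q : ℂ) - 1) * (q : ℂ) ^ 2 + C * ((q : ℂ) + 1) ^ 2 := by
      rw [hK, Finset.sum_image fun a _ b _ e => known_injective e, Fintype.sum_sum_type, Fintype.sum_sum_type]
      simp only [known, LL_one, SS_one, PP_one, Finset.sum_const, Finset.card_univ, hM, nsmul_eq_mul, one_pow, mul_one,
        Nat.cast_sub hq.le, Nat.cast_one, C, q]
      ring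
    rw [hk, card_GG] at h
    rw [hcard] at htot
    linear_combination h - ((q : ℂ) - 1) ^ 2 * htot - 2 * (q : ℂ) * hC
  choose deg hdeg hge using fun c : {c // c ∈ Kᶜ} => cusp_degree_ge ((hmem c.1).1 c.2)
  have hsumN : ∑ c : {c // c ∈ Kᶜ}, deg c ^ 2 = ∑ c : {c // c ∈ Kᶜ}, (q - 1) ^ 2 := by
    have h := hsum
    rw [← Finset.sum_coe_sort, Finset.sum_congr rfl fun c _ => by rw [hdeg c],
      show ((q : ℂ) - 1) = ((q - 1 : ℕ) : ℂ) by rw [Nat.cast_sub hq.le, Nat.cast_one]] at h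
    rw [Finset.sum_const, Finset.card_univ, Fintype.card_coe, smul_eq_mul]
    exact_mod_cast h
  have heq := (Finset.sum_eq_sum_iff_of_le fun c _ => Nat.pow_le_pow_left (hge c) 2).1 hsumN.symm
  refine ⟨?_, fun χ hχ => ?_⟩
  · rw [Nat.card_eq_fintype_card, Fintype.card_of_subtype _ hmem]
    have : (((2 * (Kᶜ).card : ℕ)) : ℂ) = ((q * (q - 1) : ℕ) : ℂ) := by
      push_cast [Nat.cast_sub hq.le]
      rw [hcard] at htot
      linear_combination 2 * htot - hC
    exact_mod_cast this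
  · set c : {c // c ∈ Kᶜ} := ⟨⟨χ, hχ.1⟩, (hmem _).2 hχ⟩
    have e := (Nat.pow_left_injective two_ne_zero) (heq c (Finset.mem_univ c))
    show (c.1 : GG → ℂ) 1 = _
    rw [hdeg c, ← e, Nat.cast_sub hq.le, Nat.cast_one]

/-- The irreducible characters of `GL₂(q)`. -/
theorem cases (χ : GG → ℂ) (hχ : Cfsg.IsIrrCharacter GG χ) :
    (∃ α, χ = LL α) ∨ (∃ α, χ = SS α) ∨ (∃ α β, α ≠ β ∧ χ = PS α β) ∨
      (IsCusp χ ∧ χ 1 = (Fintype.card F : ℂ) - 1) := by
  by_cases hc : IsCusp χ
  · exact Or.inr (Or.inr (Or.inr ⟨hc, count_and_degree.2 χ hc⟩))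
  · by_contra h
    simp only [not_or, not_exists, not_and] at h
    exact hc ⟨hχ, h.1, h.2.1, h.2.2.1⟩

end CfsgLib.GL2CharTable
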