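import Cfsg.Agent.GL2CharTable.Table

/-!
# Degrees and values of the characters of `GL₂(q)`
-/

set_option autoImplicit false
set_option linter.unusedSectionVars false

namespace CfsgLib.GL2CharTable

open Matrix CfsgLib.Characters

variable {F : Type*} [Field F] [Fintype F] [DecidableEq F]

theorem exists_diag {g : GL (Fin 2) F} (h01 : g 0 1 = 0) (h10 : g 1 0 = 0) (hne : g 0 0 ≠ g 1 1) :
    ∃ a d : Fˣ, a ≠ d ∧ g = up a d 0 := by
  obtain ⟨a, d, x, rfl, ha, hd⟩ := exists_up h10
  obtain rfl : x = 0 := by simpa using h01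
  exact ⟨a, d, fun e => hne (by rw [ha, hd, e]), rfl⟩

theorem LL_up (α : MulChar F ℂ) (a d : Fˣ) (x : F) : LL α (up a d x) = α a * α d := by
  simp [LL, Matrix.det_fin_two]

theorem SS_regular (α : MulChar F ℂ) {a d : Fˣ} (h : a ≠ d) : SS α (up a d 0) = α a * α d := by
  show PS α α (up a d 0) - LL α (up a d 0) = _
  rw [PS_regular α α h, LL_up]
  ring

theorem SS_jordan (α : MulChar F ℂ) : SS α (up (1 : Fˣ) 1 (1 : F)) = 0 := by
  show PS α α (up (1 : Fˣ) 1 (1 : F)) - LL α (up (1 : Fˣ) 1 (1 : F)) = _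
  rw [PS_jordan α α 1 one_ne_zero, LL_up, sub_self]

theorem SS_no_eigen (α : MulChar F ℂ) {g : GL (Fin 2) F}
    (hg : ∀ (c : F) (v : Fin 2 → F), v ≠ 0 → (g : Matrix (Fin 2) (Fin 2) F).mulVec v ≠ c • v) :
    SS α g = -LL α g := by
  show PS α α g - LL α g = _
  rw [PS_no_eigen α α hg, zero_sub]

theorem norm_LL (α : MulChar F ℂ) (g : GL (Fin 2) F) : ‖LL α g‖ = 1 := by
  show ‖α (g : Matrix (Fin 2) (Fin 2) F).det‖ = 1
  exact norm_apply α (Matrix.GeneralLinearGroup.det g)

theorem units_eq_of_card_two (h2 : Fintype.card F = 2) (a d : Fˣ) : a = d := by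
  have : Fintype.card Fˣ = 1 := by rw [Fintype.card_units, h2]
  exact (Fintype.card_eq_one_iff.1 this).elim fun x hx => by rw [hx a, hx d]

/-- The degree determines the kind of character. -/
theorem kind {χ : GL (Fin 2) F → ℂ} (hχ : Cfsg.IsIrrCharacter (GL (Fin 2) F) χ) :
    (χ 1 = (Fintype.card F : ℂ) → ∃ α, χ = SS α) ∧
    (χ 1 = (Fintype.card F : ℂ) + 1 → ∃ α β, α ≠ β ∧ χ = PS α β) ∧
    (3 ≤ Fintype.card F → χ 1 = 1 → ∃ α, χ = LL α) ∧
    (χ 1 = (Fintype.card F : ℂ) - 1 → IsCusp χ ∨ Fintype.card F = 2) := by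
  have hq : (1 : ℕ) < Fintype.card F := Fintype.one_lt_card
  rcases cases χ hχ with ⟨α, rfl⟩ | ⟨α, rfl⟩ | ⟨α, β, hne, rfl⟩ | ⟨hc, h1⟩
  · rw [LL_one]
    refine ⟨fun h => ?_, fun h => ?_, fun _ _ => ⟨α, rfl⟩, fun h => Or.inr ?_⟩
    · exact absurd (by exact_mod_cast h : 1 = Fintype.card F) hq.ne
    · exact absurd (by exact_mod_cast h : 1 = Fintype.card F + 1) (by omega)
    · have : (1 : ℂ) + 1 = (Fintype.card F : ℂ) := by linear_combination h
      exact (by exact_mod_cast this.symm : Fintype.card F = 1 + 1)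
  · rw [SS_one]
    refine ⟨fun _ => ⟨α, rfl⟩, fun h => ?_, fun h3 h => ?_, fun h => ?_⟩
    · simp at h
    · exact absurd (by exact_mod_cast h : Fintype.card F = 1) hq.ne'
    · exact absurd h (by intro e; have : (1 : ℂ) = 0 := by linear_combination e
                         exact one_ne_zero this)
  · rw [PS_one]
    refine ⟨fun h => ?_, fun _ => ⟨α, β, hne, rfl⟩, fun h3 h => ?_, fun h => ?_⟩
    · simp at h
    · exact absurd (by exact_mod_cast h : Fintype.card F + 1 = 1) (by omega)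
    · exact absurd h (by intro e; have : (2 : ℂ) = 0 := by linear_combination e
                         exact two_ne_zero this)
  · rw [h1]
    refine ⟨fun h => ?_, fun h => ?_, fun h3 h => ?_, fun _ => Or.inl hc⟩
    · simp at h
    · exact absurd h (by intro e; have : (2 : ℂ) = 0 := by linear_combination -e
                         exact two_ne_zero this)
    · have : (Fintype.card F : ℂ) = 1 + 1 := by linear_combination h
      exact absurd (by exact_mod_cast this : Fintype.card F = 1 + 1) (by omega)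

end CfsgLib.GL2CharTable
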